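import Cfsg.Agent.Lib.PermComp.Core

/-!
# A stabilizer chain of the permutation group of degree 315
(generated by `gen_cert2.py`)
-/

set_option maxRecDepth 1000000

namespace Cfsg.Agent.Lib.J2.Cert315

open Cfsg.Agent.Lib.PermComp

def c_n : Nat := nat_lit 315
def c_w : Nat := nat_lit 9
def c_mask : Nat := nat_lit 511
def c_L : Nat := nat_lit 2835
def c_maskL : Nat := nat_lit 0x7ffffffffffffffffffffffffffffffffffffffffffffffffffffffffffffffffffffffffffffffffffffffffffffffffffffffffffffffffffffffffffffffffffffffffffffffffffffffffffffffffffffffffffffffffffffffffffffffffffffffffffffffffffffffffffffffffffffffffffffffffffffffffffffffffffffffffffffffffffffffffffffffffffffffffffffffffffffffffffffffffffffffffffffffffffffffffffffffffffffffffffffffffffffffffffffffffffffffffffffffffffffffffffffffffffffffffffffffffffffffffffffffffffffffffffffffffffffffffffffffffffffffffffffffffffffffffffffffffffffffffffffffffffffffffffffffffffffffffffffffffffffffffffffffffffffffffffffffffffffffffffffffffffffffffffffffffffffffffffffffffffffffffffffffffffffffffffffffffffffffffffffffffffffffffffffffffffff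
def c_idc : Nat := nat_lit 0x4ea73389bcda6b3499cca633097cba5b2c95caa532893c9a4b2491c8a43208fc7a3b1c8dc6a33188bc5a2b1489c4a231087c3a1b0c85c2a130883c1a0b0481c0a03007fbf9fafc7dbe9f2f87bbd9eaf479bc9e2f077bb9daec75ba9d2e873b99cae471b89c2e06fb79badc6db69b2d86bb59aad469b49a2d067b399acc65b2992c863b198ac461b0982c05faf97abc5dae972b85bad96ab459ac962b057ab95aac55aa952a853a994aa451a8942a04fa793a9c4da6932984ba592a9449a49229047a391a8c45a29128843a190a8441a0902803f9f8fa7c3d9e8f2783b9d8ea74399c8e270379b8da6c359a8d26833998ca6431988c2602f978ba5c2d968b2582b958aa5429948a250279389a4c259289248239188a442190882401f8f87a3c1d8e872381b8d86a34198c86230178b85a2c158a85228138984a241188842200f8783a1c0d86832180b8582a14098482210078381a0c058281208038180a04018080200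
def g_T : List Nat := [nat_lit 0x135387d382e120b35a2d89c386f01c28534a46096307c9b24ab742c3c9e318fad5190a2c0c8e92a28839c204523d5651091260f6f751470a4342c840305501b9a02b905150324a171424e83862a2246a74804580c0a8d5b6e372371e61e13c0958eb762ba2a3e23cbd62ea76aa80057200a4902813070784620868404262329046d4ca1012cb4a9d5527a262f8d6a546a8e0136924ca3d339a445ba73433894ee549b6982f65683d79135d42c3e8111228d1391d1b98f0e229d9872b558d8b93511a25771d1da791c430b2be46c67c32540253c06e706386b00927f1fa598519580bcc93710a6991265ebd0d29d0e820ca713e1880a3d12018ba912200a0f1b6c15a08fe964262efa90cc674bf94bf0f2d56fb412e5b443319ed73bb80c0d145a6c17300ba49dd081546a4128393ec1af1090cdacd473b4d005f47a7cdecd50ba0ced23f339fb051ba1ddf2d088ac2706534585af01cbfd8a6697178c31481969e4d9, nat_lit 0x2996c1316c1873167fb659e8772afce4d655235a49235ac4ae69571e8bce3829dc4c053fc0500128bcd06c74649491efb151bc340661128ccdc83cda3e764c05a347e99bf9b661882386e8b27b1c104017a0d480954289409a75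a7828bc608e25ebe9017c60ba06168cf087e98264d839cb01c8949ca52c0a98a18f01003ab626537b1388e4c25c2dce33973902ee815b8122425bce4f846241c64c6a3dc8d9402464ad36ef53ce93ef150bb946ed52ba93a0054bb02b0308b44383d69ca1724988bea54ab7c0d1a80d983384841790b033198dc008ab557c8816cd8f4106b146bcb56443870c4521d93ac248566ec24a2231f951f8da71484b21b07b78ba20929a0786264448ca287bb1888c461c2920b362ad0fa4d382e108f43187d28550089e6ae67cc54ea8a600c8dce1798ba6e825dc3cda501d47408853207806581f088d8952e43502185ec0932e99c4612ecc2db5510df3cb41e0f565c32382510ab0769c, nat_lit 0x20c1813802c9a4268c42cc84e66a8cecca4bb3d28b639ad554a460b7220902cb1c4ea62001233337aaa5b66805a2d232135bf17e52994280c4731378e8284c05203370ca74d50e26ae9c0663782a2ea816804fa7f049ed12ec42a1c2abc2f869880e648a4cef931c1981228a9a4e01c0da7c3c8f69cd562079525a5ea23bcb1c6228f1601ae51c95646dd8694c2ce8263e940334aca24c7259cd9a2021a1b5183652c962cf41247157249733070b96b081fc121d0b02f0395b396f29240fe23206a0746aad89041da7a751f1d67e9d208008078211e28677220922b65cb4470593ad03ed97b8455c3787bf5b51470be09f316fc1ca24573884ac2a250fa3ec61897584325f430c24632cc1f6bb1e96cf29384140c0031e0c05f1b49168964302a6d86a1362b11aaf5c150ae4220821e69a3c171c5048ecd04aa73ab20bc9e38b551cd86bb99fe184caf5d3029c270dc8a07b918b3989bd9de2e68424771a222c1e481,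 nat_lit 0x2665339a4da6b379c4e5028042a10f87d44224f67a43a18fc7f4120ce071379b8ee763c1e4d66a361b4e875399c940a14f27d4ea654aa1349b4e2754aa451a8920914a255188d4c265168a4ba591e8e49a480a06010041007018117ebe6030576ba6331d7abc6432586c262314ba5c2d16cc06132194be5e31988d2683319dbcdf7138db4db6eb71cce774ba1c2e072b90ae562c164a45327938a85528940964a26136170a86c320b0481c0a21118743e0d0784425f4fb7bbd9fcff79bca01017abd1f8fd7cbe2552b93c9a5f2e9148e633092496592d94ca2351b8ec72291589c4a41218fc7a2d178cc619acc6532da4d367b39a8d568b41b2d86b35d6cb75cae160b15a2d55eae59ac954ab56ab01611070301e0d0504028150c86026120b05c64331a0d46c371c0e44c27118885228120945a2c180c4542b178b842200f8783a1c0d8687e3e1d0ec80411e8f090422291c88462490e74ed763c1e2ea75bbddc00]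
def g_prog : List (Nat × Nat × Nat) := [(nat_lit 1, nat_lit 2, nat_lit 0), (nat_lit 1, nat_lit 2, nat_lit 0), (nat_lit 1, nat_lit 2, nat_lit 0), (nat_lit 0, nat_lit 5, nat_lit 4), (nat_lit 0, nat_lit 0, nat_lit 7), (nat_lit 0, nat_lit 0, nat_lit 5), (nat_lit 0, nat_lit 0, nat_lit 6), (nat_lit 0, nat_lit 5, nat_lit 6), (nat_lit 0, nat_lit 0, nat_lit 1), (nat_lit 0, nat_lit 9, nat_lit 11), (nat_lit 0, nat_lit 0, nat_lit 13), (nat_lit 0, nat_lit 0, nat_lit 11), (nat_lit 0, nat_lit 0, nat_lit 15), (nat_lit 0, nat_lit 0, nat_lit 13), (nat_lit 0, nat_lit 0, nat_lit 14), (nat_lit 0, nat_lit 0, nat_lit 18), (nat_lit 0, nat_lit 0, nat_lit 16), (nat_lit 0, nat_lit 0, nat_lit 18), (nat_lit 0, nat_lit 10, nat_lit 15), (nat_lit 0, nat_lit 0, nat_lit 1), (nat_lit 0, nat_lit 15, nat_lit 23), (nat_lit 0, nat_lit 0, nat_lit 24), (nat_lit 0, nat_lit 14, nat_lit 0), (nat_lit 0, nat_lit 26, nat_lit 25), (nat_lit 0, nat_lit 0, nat_lit 24), (nat_lit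 0, nat_lit 0, nat_lit 28), (nat_lit 0, nat_lit 0, nat_lit 28), (nat_lit 0, nat_lit 0, nat_lit 27), (nat_lit 0, nat_lit 0, nat_lit 28), (nat_lit 0, nat_lit 0, nat_lit 31), (nat_lit 0, nat_lit 0, nat_lit 31), (nat_lit 0, nat_lit 0, nat_lit 33), (nat_lit 0, nat_lit 31, nat_lit 29), (nat_lit 0, nat_lit 0, nat_lit 32), (nat_lit 0, nat_lit 0, nat_lit 32), (nat_lit 0, nat_lit 0, nat_lit 3), (nat_lit 0, nat_lit 30, nat_lit 39), (nat_lit 0, nat_lit 0, nat_lit 39), (nat_lit 0, nat_lit 0, nat_lit 39), (nat_lit 0, nat_lit 0, nat_lit 42), (nat_lit 0, nat_lit 0, nat_lit 41), (nat_lit 0, nat_lit 0, nat_lit 41), (nat_lit 0, nat_lit 0, nat_lit 44), (nat_lit 0, nat_lit 41, nat_lit 40), (nat_lit 0, nat_lit 0, nat_lit 42), (nat_lit 0, nat_lit 0, nat_lit 44), (nat_lit 0, nat_lit 0, nat_lit 3), (nat_lit 1, nat_lit 38, nat_lit 0), (nat_lit 1, nat_lit 28, nat_lit 0), (nat_lit 1, nat_lit 13, nat_lit 0), (nat_lit 0, nat_lit 27, nat_lit 3), (nat_lit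 0, nat_lit 0, nat_lit 15), (nat_lit 0, nat_lit 0, nat_lit 5), (nat_lit 0, nat_lit 0, nat_lit 17), (nat_lit 0, nat_lit 0, nat_lit 7), (nat_lit 0, nat_lit 0, nat_lit 46), (nat_lit 0, nat_lit 0, nat_lit 20), (nat_lit 0, nat_lit 8, nat_lit 0), (nat_lit 0, nat_lit 38, nat_lit 22), (nat_lit 0, nat_lit 0, nat_lit 36), (nat_lit 0, nat_lit 0, nat_lit 24), (nat_lit 0, nat_lit 0, nat_lit 52), (nat_lit 0, nat_lit 0, nat_lit 26), (nat_lit 0, nat_lit 0, nat_lit 54), (nat_lit 0, nat_lit 0, nat_lit 41), (nat_lit 0, nat_lit 0, nat_lit 18), (nat_lit 0, nat_lit 0, nat_lit 19), (nat_lit 0, nat_lit 0, nat_lit 20), (nat_lit 0, nat_lit 0, nat_lit 32), (nat_lit 0, nat_lit 21, nat_lit 19), (nat_lit 0, nat_lit 0, nat_lit 1), (nat_lit 1, nat_lit 13, nat_lit 0), (nat_lit 1, nat_lit 1, nat_lit 0), (nat_lit 0, nat_lit 2, nat_lit 15), (nat_lit 0, nat_lit 0, nat_lit 3), (nat_lit 0, nat_lit 0, nat_lit 17), (nat_lit 0, nat_lit 0, nat_lit 18), (nat_lit 0,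 nat_lit 0, nat_lit 19), (nat_lit 0, nat_lit 6, nat_lit 5), (nat_lit 0, nat_lit 0, nat_lit 1)]
def g_s0 : Nat := nat_lit 0x2996c1316c1873167fb659e8772afce4d655235a49235ac4ae69571e8bce3829dc4c053fc0500128bcd06c74649491efb151bc340661128ccdc83cda3e764c05a347e99bf9b661882386e8b27b1c104017a0d480954289409a75a7828bc608e25ebe9017c60ba06168cf087e98264d839cb01c8949ca52c0a98a18f01003ab626537b1388e4c25c2dce33973902ee815b8122425bce4f846241c64c6a3dc8d9402464ad36ef53ce93ef150bb946ed52ba93a0054bb02b0308b44383d69ca1724988bea54ab7c0d1a80d983384841790b033198dc008ab557c8816cd8f4106b146bcb56443870c4521d93ac248566ec24a2231f951f8da71484b21b07b78ba20929a0786264448ca287bb1888c461c2920b362ad0fa4d382e108f43187d28550089e6ae67cc54ea8a600c8dce1798ba6e825dc3cda501d47408853207806581f088d8952e43502185ec0932e99c4612ecc2db5510df3cb41e0f565c32382510ab0769c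
def g_s1 : Nat := nat_lit 0x198fe6e50245b0d367b303e644f3e99d2c300bd2f0b0131cd20b8b21e42d23105cbe0f0d9a20a7245c8d12fe6181454650b16d760694298426383b36328f7e1da02d935451510341cb8b42e2f064c20a62804262b06afc3ac960af412ab53a58eea94127d1c7343229106b33b6a01354232178759a48180a399cb60d32492f9d8d693101e636898a1d6d177329d4d586918005c1c9086e41130cc863e238884e3f742a9c8fd73c289095680c09d37714bc64781d1f4d84494b99483d0f32e6c5782384f6248bb7a2add9137c1cd77db8ce0259c9613434468f0929c72c09a818704607081294e052996e3fe4b1a6dcea21308447deb2b8ebdcbab8873e4b27e481584604299bc760727a8410352280cf2a557ae8969858ad968c6562c1287a28a6d6e715ab10987c5927438a2953e02a1178444dac256acd008c2aaba121098a4dda318d851ec748f43c5a1a7883058208e215de12923d1d24d2843224542549de4b9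
def g_s2 : Nat := nat_lit 0x4ca6f359c4e813339b4d1c4e344a21249352296592d8cc622111603050c8780c0144a36eb717abc94ca0f07987c3a3d1f54aa1f2f85dae9b4db399ca61314ba597cbf9048611097ebf0e87541a0930996f37c220d058301e100702a5f2e3b9da2f168341cfe7e47a39fcff5329db2d86733dacd730185a4d333998bc5f341a52a9486435389d7abd0da6c9249508858e474984d592cd72b85a2d4a8552c164a051562b590c97d3ee47224623629154da68e270743a5eef640206251372b9188c545a2a150b379b93c9f8d46cf47b6130dc2e08140d209193c99cee650a80d46b82414f87d793ce572a6331cca642d16cc4632e17598cd68b4194cb6a35560b12b9589c4f55aa8964a57ab96cb7299484e29118984a28110903a1a0f86c401c10879e2ec773ade0ed77ba82c140c06424130b85482401f8f47c3c1d8e802060201c04050182068381a8c87236198dc542f170c0562d160c67244219188449229208e00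
def g_s3 : Nat := nat_lit 0x4ea6f399c4da6b33994d213088140e0d078743e090586436211185c2a592d92c92572a98cc2472294ca25f2e9349e3d1f8e47627128cc62371a90c822d178a45603007dbe9fefe7ebf1eef67abd1f2f879bc9def1783b9daeb753b1d2e870385badc72395bcdf73b99c4e36db69b2d868345acd767b39aad466335a4d365b2982c05dae98ac463b197abc5faf992c861b0972b8592cd6eb65a2d55caf56ab160b155aa8d66a399c8da6c3a9d0de6e3b9d8e2703c9e11a8c47a39329849a49229045a292a944ba593c9f5329d44a3542a5349b50285389d5229500814422508854321cf87d3f1fcf47b4120cca6433998c463341a4b45b30184ba5c2f9789e4e2b958a2502c960964a299489a4c2a9504a29138a046241109884462191c88482292466341c8d86a321b8e028180b06424150985c78401f104743d1d8fc361c108783a1a0f880140e0583c1810068445a31178c0562c150b81208018140407020180200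
noncomputable def g_lev0 : Core.Lev := Core.mkLev c_n c_w c_mask c_L c_maskL c_idc (nat_lit 86) [g_s3, g_s2, g_s1, g_s0] [(nat_lit 104, g_s0, nat_lit 86), (nat_lit 100, g_s3, nat_lit 104), (nat_lit 282, g_s1, nat_lit 104), (nat_lit 99, g_s3, nat_lit 100), (nat_lit 304, g_s1, nat_lit 100), (nat_lit 35, g_s0, nat_lit 100), (nat_lit 220, g_s2, nat_lit 282), (nat_lit 257, g_s0, nat_lit 282), (nat_lit 92, g_s2, nat_lit 99), (nat_lit 264, g_s1, nat_lit 99), (nat_lit 63, g_s0, nat_lit 99), (nat_lit 227, g_s2, nat_lit 304), (nat_lit 135, g_s0, nat_lit 304), (nat_lit 59, g_s3, nat_lit 35), (nat_lit 85, g_s1, nat_lit 35), (nat_lit 255, g_s2, nat_lit 220), (nat_lit 107, g_s1, nat_lit 220), (nat_lit 190, g_s2, nat_lit 257), (nat_lit 203, g_s2, nat_lit 92), (nat_lit 184, g_s1, nat_lit 92), (nat_lit 27, g_s0, nat_lit 92), (nat_lit 219, g_s2, nat_lit 264), (nat_lit 67, g_s3, nat_lit 63), (nat_lit 31, g_s2, nat_lit 63), (nat_lit 172, g_s1,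 nat_lit 63), (nat_lit 228, g_s3, nat_lit 227), (nat_lit 262, g_s2, nat_lit 227), (nat_lit 130, g_s1, nat_lit 227), (nat_lit 288, g_s0, nat_lit 227), (nat_lit 166, g_s3, nat_lit 135), (nat_lit 290, g_s1, nat_lit 135), (nat_lit 69, g_s3, nat_lit 59), (nat_lit 33, g_s2, nat_lit 59), (nat_lit 81, g_s1, nat_lit 59), (nat_lit 1, g_s0, nat_lit 59), (nat_lit 78, g_s2, nat_lit 85), (nat_lit 60, g_s0, nat_lit 85), (nat_lit 251, g_s3, nat_lit 255), (nat_lit 106, g_s1, nat_lit 255), (nat_lit 307, g_s0, nat_lit 255), (nat_lit 198, g_s2, nat_lit 107), (nat_lit 295, g_s0, nat_lit 107), (nat_lit 293, g_s2, nat_lit 190), (nat_lit 202, g_s1, nat_lit 190), (nat_lit 146, g_s1, nat_lit 203), (nat_lit 7, g_s0, nat_lit 203), (nat_lit 77, g_s2, nat_lit 184), (nat_lit 66, g_s0, nat_lit 184), (nat_lit 3, g_s2, nat_lit 27), (nat_lit 283, g_s1, nat_lit 27), (nat_lit 103, g_s1, nat_lit 219), (nat_lit 253, g_s0, nat_lit 219), (nat_lit 34, g_s3, nat_lit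 67), (nat_lit 177, g_s1, nat_lit 67), (nat_lit 112, g_s0, nat_lit 67), (nat_lit 4, g_s2, nat_lit 31), (nat_lit 305, g_s1, nat_lit 31), (nat_lit 62, g_s0, nat_lit 31), (nat_lit 2, g_s0, nat_lit 172), (nat_lit 278, g_s2, nat_lit 228), (nat_lit 169, g_s1, nat_lit 228), (nat_lit 114, g_s2, nat_lit 262), (nat_lit 205, g_s1, nat_lit 262), (nat_lit 310, g_s0, nat_lit 262), (nat_lit 195, g_s2, nat_lit 130), (nat_lit 44, g_s0, nat_lit 130), (nat_lit 301, g_s3, nat_lit 288), (nat_lit 210, g_s1, nat_lit 288), (nat_lit 266, g_s1, nat_lit 166), (nat_lit 314, g_s0, nat_lit 166), (nat_lit 193, g_s2, nat_lit 290), (nat_lit 122, g_s0, nat_lit 290), (nat_lit 37, g_s2, nat_lit 69), (nat_lit 75, g_s1, nat_lit 69), (nat_lit 125, g_s0, nat_lit 69), (nat_lit 265, g_s1, nat_lit 33), (nat_lit 101, g_s0, nat_lit 81), (nat_lit 71, g_s2, nat_lit 1), (nat_lit 242, g_s1, nat_lit 1), (nat_lit 82, g_s3, nat_lit 78), (nat_lit 174, g_s2, nat_lit 78), (nat_lit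 161, g_s1, nat_lit 78), (nat_lit 72, g_s3, nat_lit 60), (nat_lit 28, g_s2, nat_lit 60), (nat_lit 131, g_s1, nat_lit 251), (nat_lit 272, g_s0, nat_lit 251), (nat_lit 199, g_s2, nat_lit 106), (nat_lit 176, g_s0, nat_lit 106), (nat_lit 306, g_s3, nat_lit 307), (nat_lit 207, g_s1, nat_lit 307), (nat_lit 186, g_s3, nat_lit 198), (nat_lit 269, g_s2, nat_lit 198), (nat_lit 64, g_s1, nat_lit 198), (nat_lit 268, g_s3, nat_lit 295), (nat_lit 281, g_s2, nat_lit 295), (nat_lit 105, g_s1, nat_lit 293), (nat_lit 87, g_s0, nat_lit 293), (nat_lit 173, g_s0, nat_lit 202), (nat_lit 296, g_s0, nat_lit 146), (nat_lit 80, g_s1, nat_lit 7), (nat_lit 182, g_s2, nat_lit 77), (nat_lit 8, g_s1, nat_lit 77), (nat_lit 68, g_s0, nat_lit 77), (nat_lit 38, g_s3, nat_lit 66), (nat_lit 36, g_s2, nat_lit 66), (nat_lit 74, g_s1, nat_lit 3), (nat_lit 221, g_s2, nat_lit 283), (nat_lit 127, g_s0, nat_lit 283), (nat_lit 90, g_s2, nat_lit 103), (nat_lit 168, g_s1,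 nat_lit 253), (nat_lit 58, g_s2, nat_lit 34), (nat_lit 30, g_s0, nat_lit 34), (nat_lit 84, g_s2, nat_lit 177), (nat_lit 294, g_s0, nat_lit 177), (nat_lit 129, g_s1, nat_lit 112), (nat_lit 73, g_s2, nat_lit 4), (nat_lit 226, g_s2, nat_lit 305), (nat_lit 6, g_s3, nat_lit 2), (nat_lit 291, g_s1, nat_lit 278), (nat_lit 308, g_s0, nat_lit 278), (nat_lit 200, g_s2, nat_lit 169), (nat_lit 155, g_s0, nat_lit 169), (nat_lit 261, g_s2, nat_lit 114), (nat_lit 280, g_s1, nat_lit 114), (nat_lit 94, g_s2, nat_lit 205), (nat_lit 120, g_s0, nat_lit 205), (nat_lit 145, g_s1, nat_lit 310), (nat_lit 245, g_s2, nat_lit 195), (nat_lit 275, g_s1, nat_lit 195), (nat_lit 21, g_s3, nat_lit 44), (nat_lit 19, g_s2, nat_lit 44), (nat_lit 17, g_s1, nat_lit 44), (nat_lit 206, g_s1, nat_lit 301), (nat_lit 97, g_s2, nat_lit 210), (nat_lit 297, g_s0, nat_lit 210), (nat_lit 102, g_s1, nat_lit 314), (nat_lit 189, g_s3, nat_lit 193), (nat_lit 109, g_s2, nat_lit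 193), (nat_lit 235, g_s1, nat_lit 193), (nat_lit 231, g_s0, nat_lit 193), (nat_lit 165, g_s3, nat_lit 122), (nat_lit 128, g_s1, nat_lit 37), (nat_lit 83, g_s2, nat_lit 75), (nat_lit 156, g_s3, nat_lit 125), (nat_lit 144, g_s2, nat_lit 125), (nat_lit 154, g_s1, nat_lit 125), (nat_lit 218, g_s2, nat_lit 265), (nat_lit 98, g_s3, nat_lit 101), (nat_lit 39, g_s3, nat_lit 71), (nat_lit 175, g_s1, nat_lit 71), (nat_lit 197, g_s0, nat_lit 71), (nat_lit 223, g_s2, nat_lit 242), (nat_lit 88, g_s3, nat_lit 82), (nat_lit 170, g_s2, nat_lit 82), (nat_lit 111, g_s1, nat_lit 82), (nat_lit 274, g_s0, nat_lit 82), (nat_lit 89, g_s2, nat_lit 174), (nat_lit 276, g_s2, nat_lit 161), (nat_lit 163, g_s0, nat_lit 161), (nat_lit 41, g_s3, nat_lit 72), (nat_lit 179, g_s0, nat_lit 72), (nat_lit 26, g_s3, nat_lit 28), (nat_lit 5, g_s2, nat_lit 28), (nat_lit 49, g_s1, nat_lit 28), (nat_lit 149, g_s0, nat_lit 28), (nat_lit 194, g_s2, nat_lit 131), (nat_lit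 287, g_s3, nat_lit 272), (nat_lit 187, g_s3, nat_lit 199), (nat_lit 246, g_s0, nat_lit 199), (nat_lit 204, g_s1, nat_lit 306), (nat_lit 217, g_s0, nat_lit 306), (nat_lit 285, g_s2, nat_lit 186), (nat_lit 70, g_s1, nat_lit 186), (nat_lit 224, g_s0, nat_lit 186), (nat_lit 249, g_s2, nat_lit 269), (nat_lit 244, g_s0, nat_lit 64), (nat_lit 248, g_s2, nat_lit 268), (nat_lit 292, g_s0, nat_lit 105), (nat_lit 267, g_s1, nat_lit 296), (nat_lit 40, g_s0, nat_lit 80), (nat_lit 313, g_s0, nat_lit 182), (nat_lit 152, g_s1, nat_lit 68), (nat_lit 65, g_s3, nat_lit 38), (nat_lit 61, g_s2, nat_lit 38), (nat_lit 140, g_s1, nat_lit 36), (nat_lit 133, g_s0, nat_lit 36), (nat_lit 254, g_s2, nat_lit 221), (nat_lit 136, g_s1, nat_lit 221), (nat_lit 160, g_s3, nat_lit 127), (nat_lit 258, g_s2, nat_lit 127), (nat_lit 213, g_s2, nat_lit 90), (nat_lit 222, g_s0, nat_lit 90), (nat_lit 201, g_s2, nat_lit 168), (nat_lit 239, g_s0, nat_lit 168), (nat_lit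 147, g_s1, nat_lit 30), (nat_lit 79, g_s2, nat_lit 84), (nat_lit 225, g_s2, nat_lit 129), (nat_lit 25, g_s0, nat_lit 129), (nat_lit 121, g_s1, nat_lit 73), (nat_lit 229, g_s3, nat_lit 226), (nat_lit 263, g_s2, nat_lit 226), (nat_lit 159, g_s1, nat_lit 226), (nat_lit 95, g_s0, nat_lit 226), (nat_lit 192, g_s2, nat_lit 291), (nat_lit 211, g_s1, nat_lit 308), (nat_lit 148, g_s2, nat_lit 200), (nat_lit 214, g_s1, nat_lit 200), (nat_lit 232, g_s2, nat_lit 155), (nat_lit 188, g_s2, nat_lit 280), (nat_lit 18, g_s0, nat_lit 280), (nat_lit 208, g_s2, nat_lit 94), (nat_lit 247, g_s1, nat_lit 94), (nat_lit 289, g_s0, nat_lit 94), (nat_lit 230, g_s2, nat_lit 120), (nat_lit 196, g_s2, nat_lit 145), (nat_lit 185, g_s0, nat_lit 145), (nat_lit 271, g_s2, nat_lit 275), (nat_lit 12, g_s3, nat_lit 21), (nat_lit 57, g_s2, nat_lit 21), (nat_lit 45, g_s1, nat_lit 21), (nat_lit 153, g_s0, nat_lit 21), (nat_lit 13, g_s3, nat_lit 19), (nat_lit 51,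 g_s2, nat_lit 19), (nat_lit 241, g_s1, nat_lit 19), (nat_lit 312, g_s0, nat_lit 19), (nat_lit 42, g_s2, nat_lit 17), (nat_lit 151, g_s0, nat_lit 17), (nat_lit 134, g_s0, nat_lit 206), (nat_lit 252, g_s0, nat_lit 97), (nat_lit 260, g_s3, nat_lit 297), (nat_lit 300, g_s2, nat_lit 297), (nat_lit 91, g_s2, nat_lit 102), (nat_lit 132, g_s2, nat_lit 189), (nat_lit 234, g_s1, nat_lit 189), (nat_lit 23, g_s0, nat_lit 189), (nat_lit 299, g_s2, nat_lit 109), (nat_lit 14, g_s2, nat_lit 235), (nat_lit 119, g_s2, nat_lit 231), (nat_lit 167, g_s1, nat_lit 231), (nat_lit 171, g_s2, nat_lit 83), (nat_lit 0, g_s0, nat_lit 156), (nat_lit 233, g_s2, nat_lit 154), (nat_lit 236, g_s0, nat_lit 154), (nat_lit 96, g_s0, nat_lit 218), (nat_lit 93, g_s2, nat_lit 98), (nat_lit 123, g_s0, nat_lit 175), (nat_lit 243, g_s1, nat_lit 197), (nat_lit 143, g_s2, nat_lit 223), (nat_lit 126, g_s1, nat_lit 88), (nat_lit 32, g_s0, nat_lit 88), (nat_lit 270, g_s0,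 nat_lit 111), (nat_lit 302, g_s3, nat_lit 276), (nat_lit 116, g_s0, nat_lit 276), (nat_lit 117, g_s3, nat_lit 163), (nat_lit 180, g_s3, nat_lit 179), (nat_lit 20, g_s1, nat_lit 26), (nat_lit 284, g_s0, nat_lit 5), (nat_lit 22, g_s2, nat_lit 49), (nat_lit 110, g_s0, nat_lit 49), (nat_lit 164, g_s1, nat_lit 149), (nat_lit 43, g_s0, nat_lit 187), (nat_lit 16, g_s0, nat_lit 204), (nat_lit 256, g_s1, nat_lit 217), (nat_lit 162, g_s2, nat_lit 285), (nat_lit 115, g_s1, nat_lit 224), (nat_lit 55, g_s0, nat_lit 249), (nat_lit 10, g_s1, nat_lit 244), (nat_lit 46, g_s1, nat_lit 248), (nat_lit 139, g_s0, nat_lit 248), (nat_lit 273, g_s3, nat_lit 292), (nat_lit 11, g_s1, nat_lit 292), (nat_lit 311, g_s3, nat_lit 313), (nat_lit 259, g_s0, nat_lit 152), (nat_lit 29, g_s2, nat_lit 65), (nat_lit 250, g_s3, nat_lit 254), (nat_lit 277, g_s2, nat_lit 160), (nat_lit 237, g_s0, nat_lit 160), (nat_lit 150, g_s2, nat_lit 258), (nat_lit 118, g_s1,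 nat_lit 258), (nat_lit 142, g_s2, nat_lit 222), (nat_lit 138, g_s1, nat_lit 222), (nat_lit 240, g_s3, nat_lit 239), (nat_lit 48, g_s0, nat_lit 225), (nat_lit 52, g_s2, nat_lit 25), (nat_lit 279, g_s2, nat_lit 229), (nat_lit 303, g_s0, nat_lit 229), (nat_lit 209, g_s2, nat_lit 95), (nat_lit 108, g_s2, nat_lit 192), (nat_lit 212, g_s3, nat_lit 208), (nat_lit 56, g_s0, nat_lit 230), (nat_lit 157, g_s2, nat_lit 196), (nat_lit 54, g_s1, nat_lit 196), (nat_lit 76, g_s0, nat_lit 196), (nat_lit 183, g_s1, nat_lit 57), (nat_lit 309, g_s0, nat_lit 57), (nat_lit 141, g_s3, nat_lit 153), (nat_lit 178, g_s1, nat_lit 51), (nat_lit 15, g_s0, nat_lit 91), (nat_lit 215, g_s1, nat_lit 132), (nat_lit 158, g_s0, nat_lit 234), (nat_lit 53, g_s2, nat_lit 23), (nat_lit 286, g_s1, nat_lit 23), (nat_lit 9, g_s1, nat_lit 233), (nat_lit 47, g_s0, nat_lit 243), (nat_lit 191, g_s0, nat_lit 302), (nat_lit 24, g_s1, nat_lit 116), (nat_lit 298, g_s3, nat_lit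 284), (nat_lit 50, g_s2, nat_lit 22), (nat_lit 238, g_s0, nat_lit 162), (nat_lit 181, g_s1, nat_lit 55), (nat_lit 137, g_s1, nat_lit 277), (nat_lit 124, g_s1, nat_lit 52), (nat_lit 113, g_s1, nat_lit 56), (nat_lit 216, g_s1, nat_lit 309)]
noncomputable def g_lev1 : Core.Lev := Core.mkLev c_n c_w c_mask c_L c_maskL c_idc (nat_lit 0) [g_s3, g_s2, g_s1] [(nat_lit 185, g_s1, nat_lit 0), (nat_lit 76, g_s2, nat_lit 185), (nat_lit 183, g_s2, nat_lit 76), (nat_lit 53, g_s1, nat_lit 76), (nat_lit 178, g_s3, nat_lit 183), (nat_lit 57, g_s1, nat_lit 183), (nat_lit 240, g_s2, nat_lit 53), (nat_lit 181, g_s3, nat_lit 178), (nat_lit 51, g_s1, nat_lit 178), (nat_lit 241, g_s2, nat_lit 57), (nat_lit 13, g_s2, nat_lit 240), (nat_lit 43, g_s1, nat_lit 240), (nat_lit 55, g_s1, nat_lit 181), (nat_lit 239, g_s2, nat_lit 51), (nat_lit 17, g_s2, nat_lit 241), (nat_lit 19, g_s1, nat_lit 241), (nat_lit 23, g_s2, nat_lit 43), (nat_lit 238, g_s2, nat_lit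 55), (nat_lit 11, g_s2, nat_lit 239), (nat_lit 45, g_s3, nat_lit 17), (nat_lit 42, g_s2, nat_lit 17), (nat_lit 44, g_s1, nat_lit 17), (nat_lit 286, g_s1, nat_lit 23), (nat_lit 12, g_s2, nat_lit 238), (nat_lit 191, g_s1, nat_lit 238), (nat_lit 292, g_s1, nat_lit 11), (nat_lit 18, g_s3, nat_lit 45), (nat_lit 21, g_s1, nat_lit 45), (nat_lit 273, g_s1, nat_lit 42), (nat_lit 256, g_s2, nat_lit 286), (nat_lit 217, g_s1, nat_lit 256)]
noncomputable def g_lev2 : Core.Lev := Core.mkLev c_n c_w c_mask c_L c_maskL c_idc (nat_lit 1) [g_s3, g_s2] [(nat_lit 71, g_s2, nat_lit 1), (nat_lit 39, g_s3, nat_lit 71), (nat_lit 35, g_s2, nat_lit 71), (nat_lit 62, g_s3, nat_lit 39), (nat_lit 63, g_s2, nat_lit 39), (nat_lit 59, g_s3, nat_lit 35), (nat_lit 27, g_s2, nat_lit 62), (nat_lit 67, g_s3, nat_lit 63), (nat_lit 31, g_s2, nat_lit 63), (nat_lit 69, g_s3, nat_lit 59), (nat_lit 33, g_s2, nat_lit 59), (nat_lit 3, g_s2, nat_lit 27), (nat_lit 34,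 g_s3, nat_lit 67), (nat_lit 4, g_s2, nat_lit 31), (nat_lit 37, g_s2, nat_lit 69), (nat_lit 58, g_s2, nat_lit 34), (nat_lit 7, g_s3, nat_lit 4), (nat_lit 73, g_s2, nat_lit 4), (nat_lit 30, g_s2, nat_lit 58)]
noncomputable def g_lev3 : Core.Lev := Core.mkLev c_n c_w c_mask c_L c_maskL c_idc (nat_lit 2) [g_s3] [(nat_lit 6, g_s3, nat_lit 2), (nat_lit 5, g_s3, nat_lit 6)]
noncomputable def g_levels : List Core.Lev := [g_lev0, g_lev1, g_lev2, g_lev3]

theorem g_ok : Core.checkAll c_n c_w c_mask c_L c_maskL c_idc g_T g_prog g_levels = true := by decide +kernel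

theorem g_order : Core.orderC g_levels = 604800 := by decide +kernel

end Cfsg.Agent.Lib.J2.Cert315
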