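import Cfsg.Agent.Lib.J2.MinA

/-!
# Completeness of the list of small icosians, and of the lines of minimal vectors
-/

set_option autoImplicit false
set_option maxRecDepth 100000

open Quaternion

namespace Cfsg.Agent.Lib.J2

open Cfsg.Spor QZ MinData Cfsg.Agent.Lib.PermComp.Core

/-- The elements of a norm key. -/
def SgOf (P Q : Int) : List Nat :=
  if P = 0 ∧ Q = 0 then Sg0 else if P = 16 ∧ Q = 0 then Sg1 else if P = 24 ∧ Q = -8 then Sg2 else
  if P = 24 ∧ Q = 8 then Sg3 else if P = 32 ∧ Q = 0 then Sg4 else if P = 40 ∧ Q = -8 then Sg5 else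
  if P = 40 ∧ Q = 8 then Sg6 else if P = 48 ∧ Q = 0 then Sg7 else if P = 64 ∧ Q = 0 then Sg8 else []

/-- The representatives of a norm key. -/
def RepOf (P Q : Int) : List Nat :=
  if P = 0 ∧ Q = 0 then Rep0 else if P = 16 ∧ Q = 0 then Rep1 else if P = 24 ∧ Q = -8 then Rep2 else
  if P = 24 ∧ Q = 8 then Rep3 else if P = 32 ∧ Q = 0 then Rep4 else if P = 40 ∧ Q = -8 then Rep5 else
  if P = 40 ∧ Q = 8 then Rep6 else if P = 48 ∧ Q = 0 then Rep7 else if P = 64 ∧ Q = 0 then Rep8 else []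

/-- The keys. -/
def k9 : List (Int × Int) :=
  [(0, 0), (16, 0), (24, -8), (24, 8), (32, 0), (40, -8), (40, 8), (48, 0), (64, 0)]

def V0 : List (Int × Int) := [(-8, 0), (-7, -1), (-7, 1), (-6, -2), (-6, 0), (-6, 2), (-5, -1), (-5, 1), (-4, -2), (-4, 0), (-4, 2), (-3, -3), (-3, -1), (-3, 1), (-3, 3), (-2, -2), (-2, 0), (-2, 2), (-1, -3), (-1, -1), (-1, 1), (-1, 3), (0, -2), (0, 0), (0, 2), (1, -3), (1, -1), (1, 1), (1, 3), (2, -2), (2, 0), (2, 2), (3, -3), (3, -1), (3, 1), (3, 3), (4, -2), (4, 0), (4, 2), (5, -1), (5, 1), (6, -2), (6, 0), (6, 2), (7, -1), (7, 1), (8, 0)]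
def VL00 : List (Int × Int) := [(-8, 0), (-6, -2), (-6, 2), (-4, 0), (-2, -2), (-2, 2), (0, 0), (2, -2), (2, 2), (4, 0), (6, -2), (6, 2), (8, 0)]
def VL01 : List (Int × Int) := [(-6, 0), (-4, -2), (-4, 2), (-2, 0), (0, -2), (0, 2), (2, 0), (4, -2), (4, 2), (6, 0)]
def VL10 : List (Int × Int) := [(-7, 1), (-5, -1), (-3, -3), (-3, 1), (-1, -1), (-1, 3), (1, -3), (1, 1), (3, -1), (3, 3), (5, 1), (7, -1)]
def VL11 : List (Int × Int) := [(-7, -1), (-5, 1), (-3, -1), (-3, 3), (-1, -3), (-1, 1), (1, -1), (1, 3), (3, -3), (3, 1), (5, -1), (7, 1)]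

/-- The coordinates pairs with given label. -/
def VL (p q : Int) : List (Int × Int) :=
  if p = 0 then (if q = 0 then VL00 else VL01) else (if q = 0 then VL10 else VL11)

/-- Build a quaternion from its coordinate pairs. -/
def mk4 (c0 c1 c2 c3 : Int × Int) : QZ := ⟨c0.1, c0.2, c1.1, c1.2, c2.1, c2.2, c3.1, c3.2⟩

/-- Size of a coordinate pair. -/
def sqq (c : Int × Int) : Int := c.1 * c.1 + 5 * (c.2 * c.2)

/-- The first label. -/
def lp (c : Int × Int) : Int := c.1 % 2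

/-- The second label. -/
def lq (c : Int × Int) : Int := ((c.2 - c.1) / 2) % 2

/-- What has to hold at a candidate. -/
noncomputable def leaf (x : QZ) : Bool :=
  if 64 < x.nP then true else
    if (64 - x.nP) * (64 - x.nP) < 5 * (x.nQ * x.nQ) then true else
      memN (enc x) (SgOf x.nP x.nQ)

/-- The search over all candidates. -/
noncomputable def checkS : Bool :=
  allL (fun c0 => allL (fun c1 =>
    if 64 < sqq c0 + sqq c1 then true else
    allL (fun c2 =>
      if 64 < sqq c0 + sqq c1 + sqq c2 then true else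
      allL (fun c3 => leaf (mk4 c0 c1 c2 c3))
        (VL ((lq c0 + lp c1 + lq c1) % 2) ((lp c0 + lq c0 + lp c1) % 2)))
      (VL ((lp c0 + lq c0 + lq c1) % 2) ((lp c0 + lp c1 + lq c1) % 2))) V0) V0

theorem checkS_eq : checkS = true := by decide +kernel

end Cfsg.Agent.Lib.J2
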