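import Cfsg.Agent.Lib.PermComp.OutP.Master

/-!
# The outer automorphism group when an outer automorphism centralizes the first generator

A variant of the master theorem of `OutP`: the pairs `(A, t)` with the relations of `(A, b)` form two
orbits under `A`, exchanged by an outer automorphism centralizing `A`.
-/

set_option autoImplicit false

namespace Cfsg.Agent.Lib.J2

open Cfsg Cfsg.Agent.Lib.Golay.OutAbs Cfsg.Agent.Lib.PermComp Cfsg.Agent.Lib.PermComp.OutP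
open Cfsg.Agent.Lib.PermComp.Core (force force_eq ifB ifB_eq_true allL allL_eq_true memN memN_eq_true)
open Cfsg.Agent.Lib.PermComp.Kron (rangeAll rangeAll_spec forall_of_chunks)

section Abstract

variable {Γ : Type*} [Group Γ]

/-- Rigidity with two orbits. -/
theorem out_two_rigid2 {H : Subgroup Γ} {A b j b' : Γ} (hA : A ∈ H) (hb : b ∈ H)
    (hgen : Subgroup.closure ({A, b} : Set Γ) = H) (Tp : Γ → Prop)
    (hT : ∀ α : MulAut H, Tp ((α ⟨b, hb⟩ : H) : Γ))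
    (rels : List (List Bool × ℕ)) (hrel : Rel rels A b)
    (R1 : ∀ t ∈ H, Tp t → Rel rels A t →
      ∃ i : ℕ, A ^ i * t * (A ^ i)⁻¹ = b ∨ A ^ i * t * (A ^ i)⁻¹ = b')
    (hnorm : ∀ A' ∈ H, orderOf A' = orderOf A → ∃ x ∈ H, x * A' * x⁻¹ = A)
    (hj : ∀ h ∈ H, j * h * j⁻¹ ∈ H) (hj' : ∀ h ∈ H, j⁻¹ * h * j ∈ H)
    (hjA : j * A * j⁻¹ = A) (hjb : j * b' * j⁻¹ = b)
    (hout : ∀ x ∈ H, ¬ ∀ h ∈ H, j * h * j⁻¹ = x * h * x⁻¹) :
    Nat.card (Out H) = 2 := by
  let β : MulAut H := conjOn j hj hj'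
  have hβapp : ∀ h : H, ((β h : H) : Γ) = j * h * j⁻¹ := fun h => rfl
  have hβ : β ∉ Inn H := by
    rintro ⟨x, hx⟩
    apply hout x x.2
    intro h hh
    have := congrArg (fun f : MulAut H => (((f ⟨h, hh⟩ : H) : Γ))) hx
    simp only [MulAut.conj_apply, Subgroup.coe_mul, InvMemClass.coe_inv] at this
    exact (hβapp ⟨h, hh⟩).symm.trans this.symm
  refine card_out_two β hβ fun α => ?_
  have hord : orderOf ((α ⟨A, hA⟩ : H) : Γ) = orderOf A := by
    rw [Subgroup.orderOf_coe, MulEquiv.orderOf_eq]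
    exact Subgroup.orderOf_mk A hA
  obtain ⟨x, hx, hxA⟩ := hnorm _ (α ⟨A, hA⟩).2 hord
  set γ : MulAut H := MulAut.conj (⟨x, hx⟩ : H) * α with hγ
  have hγA : ((γ ⟨A, hA⟩ : H) : Γ) = x * ((α ⟨A, hA⟩ : H) : Γ) * x⁻¹ := by
    simp [hγ, MulAut.conj_apply]
  have hfix : γ ⟨A, hA⟩ = ⟨A, hA⟩ := Subtype.ext (hγA.trans hxA)
  have hrelH : Rel rels (⟨A, hA⟩ : H) (⟨b, hb⟩ : H) :=
    Rel.of_injective H.subtype H.subtype_injective hrel
  have h3 : Rel rels A ((γ ⟨b, hb⟩ : H) : Γ) := by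
    have := Rel.map (Rel.map hrelH γ.toMonoidHom) H.subtype
    simpa [hfix] using this
  have hTγ : Tp ((γ ⟨b, hb⟩ : H) : Γ) := hT γ
  obtain ⟨i, hi⟩ := R1 _ (γ ⟨b, hb⟩).2 hTγ h3
  have h2 : α = (MulAut.conj (⟨x, hx⟩ : H))⁻¹ * γ := by
    rw [hγ]
    group
  rcases hi with hi | hi
  · left
    have h1 := inn_of_fix hA hb hgen γ hfix i hi
    rw [h2]
    exact (Inn H).mul_mem ((Inn H).inv_mem ⟨_, rfl⟩) h1
  · right
    set δ : MulAut H := β * γ with hδ
    have hδA : δ ⟨A, hA⟩ = ⟨A, hA⟩ := by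
      apply Subtype.ext
      simp only [hδ, MulAut.mul_apply, hfix]
      rw [hβapp]
      exact hjA
    have hcomm : j * A ^ i * j⁻¹ = A ^ i := by
      rw [← conj_pow, hjA]
    have hδb : A ^ i * ((δ ⟨b, hb⟩ : H) : Γ) * (A ^ i)⁻¹ = b := by
      simp only [hδ, MulAut.mul_apply]
      rw [hβapp]
      set t : Γ := ((γ ⟨b, hb⟩ : H) : Γ) with ht
      have e1 : j * t * j⁻¹ = j * ((A ^ i)⁻¹ * b' * A ^ i) * j⁻¹ := by
        rw [← hi]
        group
      have e2 : j * ((A ^ i)⁻¹ * b' * A ^ i) * j⁻¹ =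
          (j * A ^ i * j⁻¹)⁻¹ * (j * b' * j⁻¹) * (j * A ^ i * j⁻¹) := by
        group
      rw [e1, e2, hcomm, hjb]
      group
    have h1 := inn_of_fix hA hb hgen δ hδA i hδb
    have hn : β * MulAut.conj (⟨x, hx⟩ : H) * β⁻¹ ∈ Inn H :=
      (innNormal H).conj_mem _ ⟨_, rfl⟩ β
    have h5 : β * α = (β * MulAut.conj (⟨x, hx⟩ : H) * β⁻¹)⁻¹ * δ := by
      rw [hδ, hγ]
      group
    rw [h5]
    exact (Inn H).mul_mem ((Inn H).inv_mem hn) h1

end Abstract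

variable {n : Nat}

/-- The check of the elements of the second orbit. -/
noncomputable def goodOK2 (F : Nat → Nat → Nat) (D : Frs) (gA p : Nat) (Bs : List Nat) (i' : Nat)
    (x : Nat × Nat) : Bool :=
  agree (D.v F x.1) (fun b => powA (F gA) x.2 (D.v F i' (powA (F gA) (p - x.2) b))) Bs

/-- The checks, with two orbits. -/
structure Common2 (n m N c a mm p iJ : Nat) (F : Nat → Nat → Nat) (prog : Nat → List Nat)
    (ds cs : List LevD) (D : Frs) (S : SylD) (Bs : List Nat) (Os : List Frs)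
    (rs : List (List Bool × Nat × Nat)) (goods goods2 : List (Nat × Nat)) : Prop where
  hn : 0 < n
  hm1 : 1 < m
  hlt : ∀ g < m, 2 ≤ g → ∀ a ∈ prog g, a < g
  hp : ∀ g < m, 2 ≤ g → ∀ q < n, F g q = wApp F (prog g) q
  hds : LevsC n m F [] ds
  hdsm : ∀ d ∈ ds, d.off + d.cnt ≤ m
  hprod : N = (ds.map LevD.m).prod
  hBs : Bs = ds.map LevD.b
  hDt : D.t0 = 1
  hD : D.OK n m F
  hcs : LevsC n m F [] cs
  hcomm : ∀ d ∈ cs, d.off + d.cnt ≤ m ∧ ∀ g, d.off ≤ g → g < d.off + d.cnt →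
      ∀ q < n, F g (F 1 q) = F 1 (F g q)
  hc : c = (cs.map LevD.m).prod
  hLc : c * D.L = N
  hS : S.OK n m D.L F (D.v F) (othF F Os) (othB Os) Bs
  hP : S.P = 2 ^ a
  hN2 : N = 2 ^ a * mm
  hmm : ¬ 2 ∣ mm
  hOs : ∀ O ∈ Os, O.OK n m F ∧ O.t0 < m ∧ D.L < O.L
  hb2 : ∀ q < n, F 1 (F 1 q) = q
  hb1 : ∃ q < n, F 1 q ≠ q
  hAp : ∀ q < n, powA (F 0) p q = q
  hA1 : ∃ q < n, F 0 q ≠ q
  hq : ∀ r ∈ rs, r.2.2 < n
  hchk : ∀ i < D.L, rchk F 0 D rs ((goods ++ goods2).map Prod.fst) i = true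
  hrel : ∀ r ∈ rs, ∀ q < n, relAll (F 0) (F 1) r.1 r.2.1 q = true
  hgood : ∀ x ∈ goods, x.2 ≤ p ∧ goodOK F D 0 p Bs x = true
  hgood2 : ∀ x ∈ goods2, x.2 ≤ p ∧ goodOK2 F D 0 p Bs iJ x = true

section

variable {m N c a mm p iJ : Nat} {F : Nat → Nat → Nat} {prog : Nat → List Nat}
    {ds cs : List LevD} {D : Frs} {S : SylD} {Bs : List Nat} {Os : List Frs}
    {rs : List (List Bool × Nat × Nat)} {goods goods2 : List (Nat × Nat)}
    {H : Subgroup (Equiv.Perm (Fin n))} {A b : Equiv.Perm (Fin n)}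

/-- The main consequences of the checks. -/
structure Common2.Out (hC : Common2 n m N c a mm p iJ F prog ds cs D S Bs Os rs goods goods2)
    (H : Subgroup (Equiv.Perm (Fin n))) (A b : Equiv.Perm (Fin n))
    (E : Nat → Equiv.Perm (Fin n)) : Prop where
  hE : ∀ g < m, E g ∈ H ∧ Rp (F g) (E g)
  hA : E 0 = A
  hb : E 1 = b
  hgen : Subgroup.closure ({A, b} : Set (Equiv.Perm (Fin n))) = H
  hlev : LevsOK n hC.hn F E H [] ds
  hex : ChainEx H [] (lvs hC.hn ds)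
  hbase : ∀ x ∈ H, ∀ y ∈ H, (∀ b ∈ Bs, ∀ (hb : b < n), x ⟨b, hb⟩ = y ⟨b, hb⟩) → x = y
  hT : TpInv H c (E 1)
  hrel : Rel (rs.map fun r => (r.1, r.2.1)) (E 0) (E 1)
  hcov : ∀ t ∈ H, TpInv H c t → ∃ i < D.L, t = D.e E i

theorem Common2.out [Finite H] (hC : Common2 n m N c a mm p iJ F prog ds cs D S Bs Os rs goods goods2)
    (hcard : Nat.card H = N) (hA : A ∈ H) (hb : b ∈ H) (rA : Rp (F 0) A) (rb : Rp (F 1) b) :
    ∃ E, hC.Out H A b E := by
  have hm0 : 0 < m := by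
    have := hC.hm1
    omega
  obtain ⟨E, hE, hE0, hE1, hgen, hlev⟩ := setup hC.hn hA hb rA rb prog hC.hlt hC.hp ds hC.hds hC.hdsm
    (by rw [hcard, hC.hprod])
  have hE0' := hE0 hm0
  have hE1' := hE1 hC.hm1
  have hds' : ∀ d ∈ ds, d.b < n := by
    have : ∀ (ds : List LevD) (l : List Nat), LevsC n m F l ds → ∀ d ∈ ds, d.b < n := by
      intro ds
      induction ds with
      | nil => intro _ _ d hd; simp at hd
      | cons e ds ih =>
        intro l h d hd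
        rcases List.mem_cons.1 hd with rfl | hd
        · exact h.2.2.2.2.1
        · exact ih _ h.2.2.2.2.2 d hd
    exact this ds [] hC.hds
  obtain ⟨hex, hbase⟩ := hbase_of_levs hlev (by rw [hcard, hC.hprod]) hds' hC.hBs
  have hDt := hC.hDt
  have hD := hC.hD
  have hLc' : c * D.L = Nat.card H := by rw [hC.hLc, hcard]
  have hcen : c ≤ Nat.card (H ⊓ Subgroup.centralizer ({E D.t0} : Set (Equiv.Perm (Fin n))) :
      Subgroup (Equiv.Perm (Fin n))) := by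
    rw [hC.hc, hDt]
    exact cent_ge hC.hn hE hC.hm1 cs hC.hcs hC.hcomm
  have hoth : ∀ cls l, othB Os cls l = true → ∃ e, ∃ he : e ∈ H, Rp (othF F Os cls l) e ∧
      Nat.card (Subgroup.centralizer {(⟨e, he⟩ : H)}) ≠ c := by
    intro cls l h
    unfold othB at h
    rw [ifB_eq_true] at h
    have h1 := blt_lt h.1
    have hOm : Os.getD cls ⟨0, 0, fun _ => 0, 1, 0, 0, 0, []⟩ ∈ Os := by
      rw [List.getD_eq_getElem _ _ h1]
      exact List.getElem_mem h1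
    obtain ⟨h2, h3, h4⟩ := hC.hOs _ hOm
    have hm := h2.mem hE l
    exact ⟨_, hm, h2.rp hE l, h2.cent_ne hE hLc' h4 l hm⟩
  have hcard2 : Nat.card H = 2 ^ a * mm := by rw [hcard, hC.hN2]
  have hcov : ∀ t ∈ H, TpInv H c t → ∃ i < D.L, t = D.e E i := by
    intro t _ hT
    obtain ⟨x, hx, l, _, e, he1, he2⟩ := SylD.classify hC.hS hE hbase hC.hP hcard2 hC.hmm
      (fun l _ => ⟨D.e E l, hD.mem hE l, hD.rp hE l⟩) hoth hT
    have he3 : e = D.e E l := he1.eq (hD.rp hE l)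
    obtain ⟨y, hy, e3⟩ := hD.conj hE l
    rw [he3, e3] at he2
    have hm' : x⁻¹ * y ∈ H := H.mul_mem (H.inv_mem hx) hy
    obtain ⟨i, hi, e4⟩ := hD.cover hE hLc' hcen _ hm'
    refine ⟨i, hi, ?_⟩
    rw [← e4]
    have : t = x⁻¹ * (x * t * x⁻¹) * x := by group
    rw [this, he2]
    group
  have ht0 := hE _ hD.ht0
  have ht2 : E D.t0 * E D.t0 = 1 := by
    rw [hDt]
    exact mul_self_of_check (hE 1 hC.hm1).2 hC.hb2
  have ht1 : E D.t0 ≠ 1 := by
    rw [hDt]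
    intro h
    obtain ⟨q, hq, h1⟩ := hC.hb1
    apply h1
    rw [(hE 1 hC.hm1).2 q hq, h]
    rfl
  refine ⟨E, hE, hE0', hE1', hgen, hlev, hex, hbase, ?_, ?_, hcov⟩
  · have := (⟨ht2, ht1, ht0.1, hD.card_cent hE hLc' hcen⟩ : TpInv H c (E D.t0))
    rwa [hDt] at this
  · exact rel_of_check (hE _ hm0).2 (hE _ hC.hm1).2 hC.hrel

/-- The outer automorphism group has order two. -/
theorem master_two2 [Finite H]
    (hC : Common2 n m N c a mm p iJ F prog ds cs D S Bs Os rs goods goods2)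
    (hcard : Nat.card H = N) (hA : A ∈ H) (hb : b ∈ H) (rA : Rp (F 0) A) (rb : Rp (F 1) b)
    {gc r mp : Nat} [Fact p.Prime] (hgc : gc < m)
    (hcr : ∀ q < n, F gc (F 0 q) = powA (F 0) r (F gc q))
    (hNp : N = p * mp) (hmp : ¬ p ∣ mp)
    (htab : ∀ z < p, z ≠ 0 → ∃ i < p, (z * r ^ i) % p = 1 ∨
      ∃ e ∈ ([] : List Nat), (z * r ^ i) % p = e % p)
    {gj gji gr : Nat} (hjinv : ∀ q < n, invOK n (F gj) (F gji) q = true)
    (hjA : ∀ q < n, F gj (F 0 q) = F 0 (F gj q))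
    (hjb : ∀ q < n, F gj (D.v F iJ q) = F 1 (F gj q))
    {rw : List Nat} (hrw : ∀ a ∈ rw, a < m) (hgr : ∀ q < n, F gr q = wApp F rw (F gj q))
    (hsift : (∃ pre d post, ds = pre ++ d :: post ∧ (∀ d' ∈ pre, F gr d'.b = d'.b) ∧
        d.m ≤ d.pi (F gr d.b)) ∨ ((∀ d' ∈ ds, F gr d'.b = d'.b) ∧ ∃ q < n, F gr q ≠ q))
    {d1 d2 : LevD} {rest : List LevD} (hds2 : ds = d1 :: d2 :: rest)
    (hsurj : ∀ q < n, d1.pi q < d1.m ∧ d1.pt (d1.pi q) = q)
    (hmv : ∀ q < n, moved F d1.b d2.off d2.cnt q = true) :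
    Nat.card (Out H) = 2 := by
  obtain ⟨E, hO⟩ := hC.out hcard hA hb rA rb
  have hE := hO.hE
  have hm0 : 0 < m := by
    have := hC.hm1
    omega
  have hm1 := hC.hm1
  obtain ⟨j, hj1, hj2⟩ := exists_perm hjinv
  have hnorm : ∀ A' ∈ H, orderOf A' = orderOf (E 0) → ∃ x ∈ H, x * A' * x⁻¹ = E 0 := by
    intro A' hA' ho
    obtain ⟨x, hx, h⟩ := hnorm_of_data hE hm0 hcard hgc hC.hAp hC.hA1 hcr hNp hmp [] htab A' hA' ho
    refine ⟨x, hx, ?_⟩
    rcases h with h | ⟨e, he, _⟩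
    · exact h
    · simp at he
  -- the conjugation by `j`
  have hjA' : j * E 0 * j⁻¹ = E 0 := by
    have h1 : j * E 0 = E 0 * j := by
      ext q
      have e1 := (hj1.mul (hE 0 hm0).2) q.1 q.2
      have e2 := ((hE 0 hm0).2.mul hj1) q.1 q.2
      exact e1.symm.trans ((hjA q.1 q.2).trans e2)
    rw [h1]
    group
  have ht' := hC.hD.rp hE iJ
  have hjt : j * D.e E iJ * j⁻¹ = E 1 := by
    have h1 : j * D.e E iJ = E 1 * j := by
      ext q
      have e1 := (hj1.mul ht') q.1 q.2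
      have e2 := ((hE 1 hm1).2.mul hj1) q.1 q.2
      exact e1.symm.trans ((hjb q.1 q.2).trans e2)
    rw [h1]
    group
  have hgen : Subgroup.closure ({E 0, E 1} : Set (Equiv.Perm (Fin n))) = H := by
    rw [hO.hA, hO.hb]
    exact hO.hgen
  have hA1' : j⁻¹ * E 0 * j ∈ H := by
    have : j⁻¹ * E 0 * j = E 0 := by
      calc j⁻¹ * E 0 * j = j⁻¹ * (j * E 0 * j⁻¹) * j := by rw [hjA']
        _ = E 0 := by group
    rw [this]
    exact (hE 0 hm0).1
  have hb1' : j⁻¹ * E 1 * j ∈ H := by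
    have : j⁻¹ * E 1 * j = D.e E iJ := by
      calc j⁻¹ * E 1 * j = j⁻¹ * (j * D.e E iJ * j⁻¹) * j := by rw [hjt]
        _ = D.e E iJ := by group
    rw [this]
    exact hC.hD.mem hE iJ
  obtain ⟨hjH, hjH'⟩ := norm_of_gens hgen hA1' hb1'
  -- j is not in the group
  have hjn : j ∉ H := by
    intro hjm
    have hwm : wEl E rw ∈ H := wEl_mem fun a ha => (hE a (hrw a ha)).1
    have hrm : wEl E rw * j ∈ H := H.mul_mem hwm hjm
    have hrp : Rp (F gr) (wEl E rw * j) :=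
      rp_word_mul (fun a ha => (hE a (hrw a ha)).2) hj1 hgr
    have hvl : ∀ y (hy : y < n), (wEl E rw * j) (mkF hC.hn y) = mkF hC.hn (F gr y) := by
      intro y hy
      rw [← mk_eq_mkF hC.hn hy, hrp.apply]
      apply Fin.ext
      exact (mkF_val hC.hn (hrp.lt hy)).symm
    have hdb : ∀ d ∈ ds, d.b < n := by
      have : ∀ (ds : List LevD) (l : List Nat), LevsC n m F l ds → ∀ d ∈ ds, d.b < n := by
        intro ds
        induction ds with
        | nil => intro _ _ d hd; simp at hd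
        | cons e ds ih =>
          intro l h d hd
          rcases List.mem_cons.1 hd with rfl | hd
          · exact h.2.2.2.2.1
          · exact ih _ h.2.2.2.2.2 d hd
      exact this ds [] hC.hds
    rcases hsift with ⟨pre, d, post, hsplit, h1, h2⟩ | ⟨h1, q, hq, h2⟩
    · subst hsplit
      have h3 := sift_level pre [] hO.hlev hO.hex _ hrm (by simp) (fun d' hd' => by
        have hd'm : d' ∈ pre ++ d :: post := List.mem_append_left _ hd'
        rw [hvl _ (hdb d' hd'm), h1 d' hd'])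
      have hdm : d ∈ pre ++ d :: post := List.mem_append_right _ List.mem_cons_self
      rw [hvl _ (hdb d hdm), mkF_val hC.hn (hrp.lt (hdb d hdm))] at h3
      omega
    · have h3 : wEl E rw * j = 1 := by
        refine hO.hbase _ hrm _ H.one_mem fun y hy hy' => ?_
        rw [hC.hBs] at hy
        obtain ⟨d, hd, rfl⟩ := List.mem_map.1 hy
        apply Fin.ext
        rw [← hrp _ hy', h1 d hd]
        rfl
      apply h2
      rw [hrp q hq, h3]
      rfl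
  subst hds2
  have hcen := hcen_of_levels hO.hlev hsurj hmv
  have hout := hout_of_not_mem hcen hjn
  have hAp : E 0 ^ p = 1 := by
    ext q
    have e := (powA_spec (hE 0 hm0).2 p) q.1 q.2
    rw [hC.hAp q.1 q.2] at e
    simpa using e.symm
  -- the two orbits
  have hgoodE : ∀ (t : Equiv.Perm (Fin n)) (ft : Nat → Nat), t ∈ H → Rp ft t → ∀ x : Nat × Nat, x.2 ≤ p →
      agree (D.v F x.1) (fun b => powA (F 0) x.2 (ft (powA (F 0) (p - x.2) b))) Bs = true →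
      E 0 ^ (p - x.2) * D.e E x.1 * (E 0 ^ (p - x.2))⁻¹ = t := by
    intro t ft htm hft x h1 h2
    have hAm := hE 0 hm0
    have h3 : D.e E x.1 = E 0 ^ x.2 * t * E 0 ^ (p - x.2) := by
      refine hO.hbase _ (hC.hD.mem hE _) _ (H.mul_mem (H.mul_mem (H.pow_mem hAm.1 _) htm)
        (H.pow_mem hAm.1 _)) fun b hb hb' => ?_
      apply Fin.ext
      have r1 := hC.hD.rp hE x.1 b hb'
      have r2 := (((powA_spec hAm.2 x.2).mul hft).mul (powA_spec hAm.2 (p - x.2))) b hb'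
      rw [← r1, ← r2]
      exact agree_spec h2 b hb
    rw [h3]
    have e1 : E 0 ^ (p - x.2) * E 0 ^ x.2 = 1 := by
      rw [← pow_add, Nat.sub_add_cancel h1, hAp]
    calc E 0 ^ (p - x.2) * (E 0 ^ x.2 * t * E 0 ^ (p - x.2)) * (E 0 ^ (p - x.2))⁻¹
        = (E 0 ^ (p - x.2) * E 0 ^ x.2) * t := by group
      _ = t := by rw [e1, one_mul]
  have hR1 : ∀ t ∈ H, TpInv H c t → Rel (rs.map fun r => (r.1, r.2.1)) (E 0) t →
      ∃ i : ℕ, E 0 ^ i * t * (E 0 ^ i)⁻¹ = E 1 ∨ E 0 ^ i * t * (E 0 ^ i)⁻¹ = D.e E iJ := by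
    intro t ht hT hR
    obtain ⟨i, hi, rfl⟩ := hO.hcov t ht hT
    have h1 := hC.hchk i hi
    unfold rchk at h1
    cases h2 : relAny (F 0) (D.v F i) rs with
    | true =>
      exact absurd hR (relAny_spec (hE _ hm0).2 (hC.hD.rp hE i) hC.hq h2)
    | false =>
      rw [h2] at h1
      have h3 := (memN_eq_true _ _).1 h1
      obtain ⟨x, hx, rfl⟩ := List.mem_map.1 h3
      rcases List.mem_append.1 hx with hx | hx
      · obtain ⟨h4, h5⟩ := hC.hgood x hx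
        refine ⟨p - x.2, Or.inl ?_⟩
        have hDt := hC.hDt
        unfold goodOK at h5
        rw [hDt] at h5
        exact hgoodE (E 1) (F 1) (hE 1 hm1).1 (hE 1 hm1).2 x h4 h5
      · obtain ⟨h4, h5⟩ := hC.hgood2 x hx
        refine ⟨p - x.2, Or.inr ?_⟩
        exact hgoodE (D.e E iJ) (D.v F iJ) (hC.hD.mem hE iJ) (hC.hD.rp hE iJ) x h4 h5
  exact out_two_rigid2 (hE 0 hm0).1 (hE 1 hm1).1 hgen (TpInv H c)
    (fun α => tpInv_aut (hE 1 hm1).1 hO.hT α) _ hO.hrel hR1 hnorm hjH hjH' hjA' hjt hout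

end

end Cfsg.Agent.Lib.J2
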